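import Mathlib
import Cfsg.Prelude.Def_ChevStructure
import Cfsg.Prelude.Def_LieTwisted
import Cfsg.Agent.Lib.helper8.ChevTwE6B
import Cfsg.Agent.Lib.helper8.ChevTwE6C
import Cfsg.Agent.Lib.helper8.ChevTwE6c

/-!
# Project TEM = S2191 (designer helper10): the rational points `M ≅ F₄(q)` are maximal in `²E₆(q)`.
Definitions.

`K` is the field with `q²` elements, `G¹ = twistedE6 K q ≤ GL chevE6.Idx K`, `k = {c | c ^ q = c}`.
Roots of `chevE6`: index `r < 72`, `-r` has index `71 - r`, positive roots `36 … 71`, simple roots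
`α₁ … α₆ = 56 46 42 39 37 36`, `ρ = 71`.  The graph automorphism is `σ = h8sE6` (`α₁ ↔ α₆`, `α₃ ↔ α₅`) with signs
`η = h8eE6` (`η = 1` on all 24 fixed roots, `η_r = η_{σ r}`); the twisted Frobenius is `x_r(t) ↦ x_{σ r}(η_r t^q)`
(helper8 `h8Sig`).  Twisted root system `F₄`: the 24 fixed roots are its long roots, the 24 orbits `{r, σ r}`
its short roots.

* `X r t = x_r(t)`, `hh r t = h_r(t)`, `nW w` = product of the `n_{α_i}(1)`, `i` in the word `w` of simple
  indices `0 … 5`; `orbW k` = the word of the `k`-th orbit of simple roots (`[1] [3] [2,4] [0,5]`, the simple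
  reflections of `W(F₄)`), `flatO l` the word of a list `l` of orbit indices, `nO l = nW (flatO l)` (`∈ M`).
* `XS q r t = x_r(t) x_{σ r}(η_r t^q)` (`r` not fixed): the short root elements of `G¹`.
* `Rat q g` : all entries of `g` lie in `k`.  `IsM q M` : `M` is the subgroup of the rational elements of `G¹`.
* the chain of orthogonal long roots `ρ₁ … ρ₄ = 71 60 44 39` (`F₄ ⊃ C₃ ⊃ C₂ ⊃ C₁`), `Psi i` = the positive
  roots orthogonal to `ρ₁ … ρ_{i-1}` and not to `ρ_i`; `UPsi K L` = the subgroup generated by the root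
  subgroups of the roots in the list `L`; `ng L` = the list of the negatives.
* `posi` : a block order on the positive roots adapted to the levels (blocks = orbits of `σ`; block `0` is
  `Psi4`, blocks `1-3` `Psi3`, `4-8` `Psi2`, `9-23` `Psi1`), for helper8's `h8Ub / h8Pb / h8Lb` machinery.
* `RootRat q H` : every short root element `XS q r t ∈ H` has `t ∈ k`.
-/

set_option autoImplicit false

namespace Cfsg.Agent.Lib.Helper10.TEM

open Cfsg.Lie Cfsg.Lie.ChevalleyDatum Matrix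
open Cfsg.Agent.Lib.helper8

universe u

theorem hD : chevE6 ∈ [chevG2, chevB2, chevD4, chevF4, chevE6, chevE7, chevE8] := by simp

/-- the base package of helper8's toolkit for `chevE6` -/
theorem hB : H8Base.{u} chevE6 := h8base_all chevE6 hD

/-- the other packages of helper8's toolkit for `chevE6` -/
theorem hA : H8ReflAll chevE6 := h8reflAll chevE6 hD
theorem hC : H8CommAll.{u} chevE6 := h8commAll chevE6 hD
theorem hBN : H8BN chevE6 := h8bn_all chevE6 hD
theorem hW : H8BN2 chevE6 := h8bn2_all chevE6 hD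
theorem hO : H8Ord chevE6 := (h8ord_all chevE6 hD).1
theorem hO2 : H8Ord2 chevE6 := (h8ord_all chevE6 hD).2
theorem hAut : H8Aut chevE6 h8sE6 h8tE6 h8pE6 h8qE6 h8eE6 := h8autE6 hA

/-- the ambient general linear group -/
abbrev GG (K : Type u) [Field K] := GL chevE6.Idx K

/-- the word of the `k`-th orbit of simple roots -/
def orbW : ℕ → List ℕ
  | 0 => [1]
  | 1 => [3]
  | 2 => [2, 4]
  | _ => [0, 5]

/-- the word (in the simple reflections of `E₆`) of a list of orbit indices -/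
def flatO (l : List ℕ) : List ℕ := l.flatMap orbW

/-- the levels -/
def Psi1 : List ℕ :=
  [46, 47, 48, 49, 50, 51, 52, 53, 54, 55, 61, 62, 63, 64, 65, 66, 67, 68, 69, 70, 71]
def Psi2 : List ℕ := [36, 38, 41, 45, 56, 57, 58, 59, 60]
def Psi3 : List ℕ := [37, 40, 42, 43, 44]
def Psi4 : List ℕ := [39]
/-- the long roots of level 1 -/
def Psi1L : List ℕ := [46, 47, 51, 53, 63, 65, 69, 70, 71]

/-- the negatives of a list of roots -/
def ng (L : List ℕ) : List ℕ := L.map fun r => 71 - r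

def posiL : List ℕ :=
  [0, 0, 0, 0, 0, 0, 0, 0, 0, 0, 0, 0, 0, 0, 0, 0, 0, 0, 0, 0, 0, 0, 0, 0, 0, 0, 0, 0, 0, 0, 0, 0, 0, 0, 0, 0,
   4, 1, 5, 0, 2, 6, 1, 2, 3, 7, 9, 10, 11, 12, 11, 13, 14, 15, 16, 18, 4, 5, 6, 7, 8, 12, 14, 17, 16, 19,
   20, 18, 20, 21, 22, 23]

/-- the level-adapted block order -/
def posi (r : ℕ) : ℕ := posiL.getD r 0

/-- orbit words: `ρ₂ = 60 ↦ ρ`, `ρ₃ = 44 ↦ ρ`, `α₂ = 46 ↦ ρ`, and the longest element -/
def l2 : List ℕ := [0, 1, 2, 1, 0]
def l3 : List ℕ := [0, 1, 2, 3, 1, 0]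
def lr : List ℕ := [0, 1, 2, 3, 1, 2, 1]
def l0 : List ℕ := [3, 2, 1, 2, 0, 1, 2, 3, 2, 1, 2, 0, 1, 2, 3, 2, 1, 2, 0, 1, 2, 0, 1, 0]

section Field

variable {K : Type u} [Field K]

/-- the root element `x_r(t)` -/
def X (r : ℕ) (t : K) : GG K := h8xU chevE6 hB r t

/-- the torus element `h_r(t)` -/
def hh (r : ℕ) (t : K) : GG K := h8hU chevE6 hB r t

/-- the product of the `n_{α_i}(1)` over a word of simple indices -/
def nW (w : List ℕ) : GG K := h8nWU chevE6 hB w

/-- the element of `N ∩ M` of a list of orbit indices -/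
def nO (l : List ℕ) : GG K := nW (flatO l)

/-- an element of `⟨X_ρ(k), X_{-ρ}(k)⟩` inducing the reflection in `ρ` -/
def nrho : GG K := nO lr * h8nU chevE6 hB 46 1 * (nO lr)⁻¹

/-- the short root element `x_r(t) x_{σ r}(η_r t^q)` of `²E₆(q)` -/
def XS (q : ℕ) (r : ℕ) (t : K) : GG K := X r t * X (h8sE6 r) (((h8eE6 r : ℤ) : K) * t ^ q)

/-- the product of the six short root elements of level 1 -/
def QS (q : ℕ) (t : ℕ → K) : GG K :=
  XS q 48 (t 48) * XS q 49 (t 49) * XS q 52 (t 52) * XS q 54 (t 54) * XS q 55 (t 55) * XS q 66 (t 66)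

/-- all matrix entries lie in the subfield with `q` elements -/
def Rat (q : ℕ) (g : GG K) : Prop :=
  ∀ i j : chevE6.Idx, ((g : Matrix chevE6.Idx chevE6.Idx K) i j) ^ q = (g : Matrix chevE6.Idx chevE6.Idx K) i j

/-- `M` is the subgroup of the rational elements of `²E₆(q)` -/
def IsM (q : ℕ) (M : Subgroup (GG K)) : Prop := ∀ g : GG K, g ∈ M ↔ g ∈ twistedE6 K q ∧ Rat q g

variable (K) in
/-- `U¹ = U ∩ G¹` -/
def U1 (q : ℕ) : Subgroup (GG K) := chevE6.posUnipotent K ⊓ twistedE6 K q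

variable (K) in
/-- `V¹ = V ∩ G¹` -/
def V1 (q : ℕ) : Subgroup (GG K) := chevE6.negUnipotent K ⊓ twistedE6 K q

variable (K) in
/-- `T¹ = H ∩ G¹` (the torus) -/
def T1 (q : ℕ) : Subgroup (GG K) := chevE6.diagonalSubgroup K ⊓ twistedE6 K q

variable (K) in
/-- the subgroup generated by the root subgroups of the roots in `L` -/
def UPsi (L : List ℕ) : Subgroup (GG K) :=
  Subgroup.closure {g : GG K | ∃ r ∈ L, ∃ t : K, g = X r t}

/-- the short root elements of a subgroup `H` have rational parameters -/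
def RootRat (q : ℕ) (H : Subgroup (GG K)) : Prop :=
  ∀ r < 72, h8sE6 r ≠ r → ∀ t : K, XS q r t ∈ H → t ^ q = t

/-- the Frobenius `t ↦ t ^ q` as an involutive automorphism of `K` -/
structure Frob (q : ℕ) (f : K ≃+* K) : Prop where
  pow : ∀ t, f t = t ^ q
  inv : ∀ t, f (f t) = t
  neg : (-1 : K) ^ q = -1

/-- The data of S2191: `M` = the rational points of `G¹ = ²E₆(q)`, `M ≤ H ≤ G¹`. -/
structure Ctx (q : ℕ) (f : K ≃+* K) (M H : Subgroup (GG K)) : Prop where
  hF : Frob q f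
  hM : IsM q M
  hMH : M ≤ H
  hHG : H ≤ twistedE6 K q

end Field

/-! ### data lists of the descent -/

/-- the pairs `(L, a)`: every element of `UPsi K L` commutes with the root subgroup of `a` -/
def commPairs : List (List ℕ × ℕ) :=
  [(ng Psi1, 0), (ng Psi2, 0), (ng Psi3, 0), (ng Psi4, 0), (Psi2, 0), (Psi3, 0), (Psi4, 0),
   (Psi1, 71), (Psi2, 71), (Psi3, 71), (Psi4, 71), (ng Psi2, 71), (ng Psi3, 71), (ng Psi4, 71),
   (ng Psi2, 11), (ng Psi3, 11), (ng Psi4, 11), (Psi3, 11), (Psi4, 11),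
   (Psi2, 60), (Psi3, 60), (Psi4, 60), (ng Psi3, 60), (ng Psi4, 60),
   (ng Psi3, 27), (ng Psi4, 27), (Psi4, 27),
   (Psi3, 44), (Psi4, 44), (ng Psi4, 44)]

/-- the pairs `(L, L')`: `UPsi K L` normalizes `UPsi K L'` -/
def normPairs : List (List ℕ × List ℕ) :=
  [(Psi2, Psi1), (Psi3, Psi1), (Psi4, Psi1), (Psi3, Psi2), (Psi4, Psi2), (Psi4, Psi3)]

/-- the cases `(L, a)` of Lemma A: `L` a level (or its negative), `a` the root `∓ρ_i` -/
def lemAPairs : List (List ℕ × ℕ) :=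
  [(Psi1, 0), (Psi2, 11), (Psi3, 27), (ng Psi1, 71), (ng Psi2, 60), (ng Psi3, 44)]

/-- `(b, b')`: `s_ρ b = b'` for four long roots `b` of level 1 -/
def rhoPairs : List (ℕ × ℕ) := [(53, 8), (65, 20), (69, 24), (70, 25)]

/-- `(b, b', a)`: `b + b' = a`, `b` long of level `1`, `b'` long of level `-1`, `a` one of the six long
roots orthogonal to `ρ` -/
def longTriples : List (ℕ × ℕ × ℕ) :=
  [(46, 8, 11), (46, 20, 27), (46, 24, 32), (47, 25, 39), (51, 25, 44), (63, 25, 60)]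

/-- `(r, a, r')`: `r + a = r'`, `r, r'` short of level `1`, `a` long orthogonal to `ρ` -/
def shortTriples : List (ℕ × ℕ × ℕ) :=
  [(48, 60, 66), (49, 44, 55), (52, 39, 54), (54, 32, 52), (55, 27, 49), (66, 11, 48)]

section Twist

variable {K : Type u} [Field K]

/-- the twisted Frobenius `x_r(t) ↦ x_{σ r}(η_r f(t))` (helper8's `h8Sig`) -/
noncomputable def Sg (f : K ≃+* K) : GG K →* GG K :=
  h8Sig chevE6 h8sE6 h8tE6 h8pE6 h8qE6 h8eE6 hAut f

theorem frob_exists [Fintype K] {q : ℕ} (hq : IsPrimePow q) (hK : Fintype.card K = q ^ 2) :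
    ∃ f : K ≃+* K, Frob q f := by
  obtain ⟨f, hf, hff, hneg⟩ := h8frob_exists hq 2 (by norm_num) hK
  exact ⟨f, hf, fun t => hff t, hneg⟩

variable {q : ℕ} {f : K ≃+* K}

/-- `G¹` is fixed by the twisted Frobenius -/
theorem sig_fix (hF : Frob q f) : ∀ g ∈ twistedE6 K q, Sg f g = g :=
  h8twE6_fix hB hC hA q f hF.pow hF.inv

/-- the fixed points of the twisted Frobenius in `U` lie in `G¹` -/
theorem U_fix (hF : Frob q f) :
    ∀ g ∈ chevE6.posUnipotent K, Sg f g = g → g ∈ twistedE6 K q :=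
  h8twE6_U_fix hB hC hA hBN hO2 q f hF.pow hF.inv hF.neg

theorem Sg_X (f : K ≃+* K) (r : ℕ) (hr : r < 72) (t : K) :
    Sg f (X r t) = X (h8sE6 r) (((h8eE6 r : ℤ) : K) * f t) :=
  h8Sig_xU chevE6 h8sE6 h8tE6 h8pE6 h8qE6 h8eE6 hAut f hB r hr t

end Twist

/-! ### the level-adapted block order -/

set_option synthInstance.maxSize 1024 in
theorem blk1 : ∀ r < chevE6.nroots, ∀ s < chevE6.nroots, chevE6.IsPosRoot r →
    chevE6.IsPosRoot s → s ≠ r →
      (∀ c ∈ chevE6.commTerms r s, chevE6.IsPosRoot c.1 ∧ posi r < posi c.1 ∧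
        posi s < posi c.1) ∧
      (posi r = posi s → chevE6.commTerms r s = []) := by decide +kernel

theorem blk : H8Blk chevE6 posi :=
  ⟨fun r s hr hs hsr => (blk1 r hr.1 s hs.1 hr hs hsr).1,
   fun r s hr hs hsr => (blk1 r hr.1 s hs.1 hr hs hsr).2⟩

set_option synthInstance.maxSize 1024 in
theorem blkRead1 : ∀ k < chevE6.nroots, ∀ r < chevE6.nroots, chevE6.IsPosRoot k →
    chevE6.IsPosRoot r → r ≠ k → posi k ≤ posi r →
      ∀ e ∈ chevE6.chainEntry r (chevE6.negIdx.getD k 0), chevE6.nroots / 2 ≤ e.1 := by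
  decide +kernel

theorem blkRead : H8BlkRead chevE6 posi :=
  ⟨fun k r hk hr => blkRead1 k hk.1 r hr.1 hk hr⟩

theorem sigp1 : ∀ r < chevE6.nroots, chevE6.IsPosRoot r →
    chevE6.IsPosRoot (h8sE6 r) ∧ posi (h8sE6 r) = posi r ∧ posi r < 24 := by
  decide +kernel

/-- `σ` preserves the blocks -/
theorem sigp : ∀ r, chevE6.IsPosRoot r →
    chevE6.IsPosRoot (h8sE6 r) ∧ posi (h8sE6 r) = posi r :=
  fun r hr => ⟨(sigp1 r hr.1 hr).1, (sigp1 r hr.1 hr).2.1⟩

theorem posi_lt : ∀ r, chevE6.IsPosRoot r → posi r < 24 := fun r hr => (sigp1 r hr.1 hr).2.2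

/-- the blocks -/
theorem Lb_data : (List.range 24).map (h8Lb chevE6 posi) =
    [[39], [37, 42], [40, 43], [44], [36, 56], [38, 57], [41, 58], [45, 59], [60], [46], [47],
     [48, 50], [49, 61], [51], [52, 62], [53], [54, 64], [63], [55, 67], [65], [66, 68], [69], [70],
     [71]] := by decide +kernel

/-- basic root data: `-r = 71 - r`, `σ` is an involution commuting with `-`, signs -/
theorem root_data : ∀ r < 72, r < chevE6.nroots ∧ chevE6.negIdx.getD r 0 = 71 - r ∧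
    h8sE6 r < 72 ∧ h8sE6 (h8sE6 r) = r ∧ h8sE6 (71 - r) = 71 - h8sE6 r ∧
    h8eE6 (h8sE6 r) = h8eE6 r ∧ (h8eE6 r = 1 ∨ h8eE6 r = -1) ∧ (h8sE6 r = r → h8eE6 r = 1) ∧
    (chevE6.IsPosRoot r ↔ 36 ≤ r) ∧ (chevE6.IsNegRoot r ↔ r < 36) := by decide +kernel

end Cfsg.Agent.Lib.Helper10.TEM
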