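import Mathlib
import Cfsg.Agent.Lib.Helper10.TEM.Defs
import Cfsg.Agent.Lib.helper2.TEMN2
import Cfsg.Agent.Lib.helper4.TEMR2
import Cfsg.Agent.Lib.helper15.TEMG3
import Cfsg.Agent.Lib.Helper16.TEMC2
import Cfsg.Agent.Lib.Helper21.TEMC3
import Cfsg.Agent.Lib.Helper16.TEMC8
import Cfsg.Agent.Lib.Helper19.TEMP1
import Cfsg.Agent.Lib.Helper19.TEMP2
import Cfsg.Agent.Lib.Helper27.TEMP3
import Cfsg.Agent.Lib.Helper27.TEMF3
import Cfsg.Agent.Lib.Helper27.TEMF4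
import Cfsg.Agent.Lib.Helper26.TEMF5
import Cfsg.Agent.Lib.Helper28.TEMA8
import Cfsg.Agent.Lib.Helper10.TEMD1
import Cfsg.Agent.Lib.Helper28.TEMD2

/-!
# Project TEM : the assembly.  `F₄(q)` = the rational points is a maximal subgroup of `²E₆(q)`.

`temd3_step_U / temd3_step_V` : one step of the descent (Lemma A at a level, `lemA_all`);
`temd3_core` : `u t v ∈ H ⇒ u, t, v ∈ M` under `RootRat`; `core` : `H ≤ M`; `fld_main` : `H = G¹` or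
`RootRat`; `tem_main` : the theorem.
-/

set_option autoImplicit false

namespace Cfsg.Agent.Lib.Helper10.TEM

open Cfsg.Lie Cfsg.Lie.ChevalleyDatum Matrix
open Cfsg.Agent.Lib.helper8

universe u

variable {K : Type u} [Field K] {q : ℕ} {f : K ≃+* K} {M H : Subgroup (GG K)}

theorem temd3_X_mem_M (C : Ctx q f M H) (r : ℕ) (hr : r < 72) (hσ : h8sE6 r = r) (t : K)
    (ht : t ^ q = t) : X r t ∈ M :=
  (C.hM _).mpr ⟨X_mem_G1 C.hF r hr hσ t ht, rat_X C.hF r t ht⟩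

theorem temd3_M_le (C : Ctx q f M H) : M ≤ twistedE6 K q := fun g hg => ((C.hM g).mp hg).1

theorem temd3_pow_inv_mul (χ c : K) (hχ : χ ^ q = χ) (hc : c ^ q = c) :
    (χ⁻¹ * c) ^ q = χ⁻¹ * c := by
  rw [mul_pow, inv_pow, hχ, hc]

/-- the `U`-step of the descent -/
theorem temd3_step_U (C : Ctx q f M H) (hRR : RootRat q H) (L : List ℕ) (an : ℕ)
    (hLa : (L, an) ∈ lemAPairs) (han : an < 72) (hσ : h8sE6 an = an)
    (P b t v : GG K) (ht : t ∈ T1 K q)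
    (hb : P * b * P⁻¹ ∈ UPsi K L ⊓ twistedE6 K q)
    (hP : ∀ c : K, Commute P (X an c)) (hv : ∀ c : K, Commute v (X an c))
    (h : P * b * t * v ∈ H) : P * b * P⁻¹ ∈ M ∧ P * t * v ∈ H := by
  obtain ⟨χ, hχ0, hχq, hχ⟩ := T_act C.hF t ht an han hσ
  have hbM : P * b * P⁻¹ ∈ M := by
    apply lemA_all C hRR L an hLa _ hb
    intro c hc
    have hx : X an (χ⁻¹ * c) ∈ H :=
      C.hMH (temd3_X_mem_M C an han hσ _ (temd3_pow_inv_mul χ c hχq hc))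
    have h1 : (P * b * t * v) * X an (χ⁻¹ * c) * (P * b * t * v)⁻¹ ∈ H :=
      H.mul_mem (H.mul_mem h hx) (H.inv_mem h)
    have e : (P * b * t * v) * X an (χ⁻¹ * c) * (P * b * t * v)⁻¹ =
        (P * b * P⁻¹) * X an c * (P * b * P⁻¹)⁻¹ := by
      have e1 : v * X an (χ⁻¹ * c) * v⁻¹ = X an (χ⁻¹ * c) := by
        rw [(hv _).eq, mul_inv_cancel_right]
      have e2 : t * X an (χ⁻¹ * c) * t⁻¹ = X an c := by
        rw [hχ, ← mul_assoc, mul_inv_cancel₀ hχ0, one_mul]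
      have e3 : P * X an c * P⁻¹ = X an c := by
        rw [(hP _).eq, mul_inv_cancel_right]
      calc (P * b * t * v) * X an (χ⁻¹ * c) * (P * b * t * v)⁻¹
          = P * b * (t * (v * X an (χ⁻¹ * c) * v⁻¹) * t⁻¹) * b⁻¹ * P⁻¹ := by group
        _ = P * b * X an c * b⁻¹ * P⁻¹ := by rw [e1, e2]
        _ = (P * b * P⁻¹) * (P * X an c * P⁻¹) * (P * b * P⁻¹)⁻¹ := by group
        _ = (P * b * P⁻¹) * X an c * (P * b * P⁻¹)⁻¹ := by rw [e3]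
    rw [e] at h1
    exact h1
  refine ⟨hbM, ?_⟩
  have e : P * t * v = (P * b * P⁻¹)⁻¹ * (P * b * t * v) := by group
  rw [e]
  exact H.mul_mem (H.inv_mem (C.hMH hbM)) h

/-- the `V`-step of the descent -/
theorem temd3_step_V (C : Ctx q f M H) (hRR : RootRat q H) (L : List ℕ) (ap : ℕ)
    (hLa : (L, ap) ∈ lemAPairs) (hap : ap < 72) (hσ : h8sE6 ap = ap)
    (P t R c : GG K) (ht : t ∈ T1 K q)
    (hc : c ∈ UPsi K L ⊓ twistedE6 K q)
    (hP : ∀ s : K, Commute P (X ap s)) (hR : ∀ s : K, Commute R (X ap s))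
    (h : P * t * (R * c) ∈ H) : c ∈ M ∧ P * t * R ∈ H := by
  have ht' : t⁻¹ ∈ T1 K q := (T1 K q).inv_mem ht
  obtain ⟨χ, hχ0, hχq, hχ⟩ := T_act C.hF t⁻¹ ht' ap hap hσ
  have hcM : c⁻¹ ∈ M := by
    apply lemA_all C hRR L ap hLa _ ((UPsi K L ⊓ twistedE6 K q).inv_mem hc)
    intro s hs
    have hx : X ap (χ⁻¹ * s) ∈ H :=
      C.hMH (temd3_X_mem_M C ap hap hσ _ (temd3_pow_inv_mul χ s hχq hs))
    have h1 : (P * t * (R * c))⁻¹ * X ap (χ⁻¹ * s) * (P * t * (R * c)) ∈ H :=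
      H.mul_mem (H.mul_mem (H.inv_mem h) hx) h
    have e : (P * t * (R * c))⁻¹ * X ap (χ⁻¹ * s) * (P * t * (R * c)) =
        c⁻¹ * X ap s * c⁻¹⁻¹ := by
      have e1 : P⁻¹ * X ap (χ⁻¹ * s) * P = X ap (χ⁻¹ * s) := by
        rw [mul_assoc, ← (hP _).eq, inv_mul_cancel_left]
      have e2 : t⁻¹ * X ap (χ⁻¹ * s) * t = X ap s := by
        have := hχ (χ⁻¹ * s)
        rw [inv_inv, ← mul_assoc, mul_inv_cancel₀ hχ0, one_mul] at this
        exact this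
      have e3 : R⁻¹ * X ap s * R = X ap s := by
        rw [mul_assoc, ← (hR _).eq, inv_mul_cancel_left]
      calc (P * t * (R * c))⁻¹ * X ap (χ⁻¹ * s) * (P * t * (R * c))
          = c⁻¹ * (R⁻¹ * (t⁻¹ * (P⁻¹ * X ap (χ⁻¹ * s) * P) * t) * R) * c := by group
        _ = c⁻¹ * X ap s * c := by rw [e1, e2, e3]
        _ = c⁻¹ * X ap s * c⁻¹⁻¹ := by rw [inv_inv]
    rw [e] at h1
    exact h1
  have hcM' : c ∈ M := by
    have := M.inv_mem hcM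
    rwa [inv_inv] at this
  refine ⟨hcM', ?_⟩
  have e : P * t * R = (P * t * (R * c)) * c⁻¹ := by group
  rw [e]
  exact H.mul_mem h (C.hMH hcM)

theorem temd3_comm2 {G : Type*} [Group G] {a b x : G} (ha : Commute a x) (hb : Commute b x) :
    Commute (a * b) x := ha.mul_left hb

theorem temd3_mem_lemA : (Psi1, 0) ∈ lemAPairs ∧ (Psi2, 11) ∈ lemAPairs ∧ (Psi3, 27) ∈ lemAPairs ∧
    (ng Psi1, 71) ∈ lemAPairs ∧ (ng Psi2, 60) ∈ lemAPairs ∧ (ng Psi3, 44) ∈ lemAPairs := by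
  simp [lemAPairs]

/-- membership in `commPairs`, by evaluation -/
theorem temd3_cp (L : List ℕ) (a : ℕ) (h : decide ((L, a) ∈ commPairs) = true) :
    (L, a) ∈ commPairs := of_decide_eq_true h

theorem temd3_np (L L' : List ℕ) (h : decide ((L, L') ∈ normPairs) = true) :
    (L, L') ∈ normPairs := of_decide_eq_true h

/-- `UPsi K L ⊓ G¹` commutes with the root subgroup of `a` for `(L, a) ∈ commPairs` -/
theorem temd3_comm (L : List ℕ) (a : ℕ) (h : (L, a) ∈ commPairs) (g : GG K)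
    (hg : g ∈ UPsi K L ⊓ twistedE6 K q) (c : K) : Commute g (X a c) :=
  comm_pairs L a h g hg.1 c

theorem temd3_norm (L L' : List ℕ) (h : (L, L') ∈ normPairs) (g : GG K)
    (hg : g ∈ UPsi K L ⊓ twistedE6 K q) (b : GG K) (hb : b ∈ UPsi K L' ⊓ twistedE6 K q) :
    g * b * g⁻¹ ∈ UPsi K L' ⊓ twistedE6 K q :=
  ⟨norm_pairs L L' h g hg.1 b hb.1,
    Subgroup.mul_mem _ (Subgroup.mul_mem _ hg.2 hb.2) (Subgroup.inv_mem _ hg.2)⟩

theorem temd3_sig_data : h8sE6 0 = 0 ∧ h8sE6 71 = 71 ∧ h8sE6 11 = 11 ∧ h8sE6 60 = 60 ∧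
    h8sE6 27 = 27 ∧ h8sE6 44 = 44 := by decide +kernel

/-- the descent: `u t v ∈ H` implies `u, t, v ∈ M` -/
theorem temd3_core (C : Ctx q f M H) (hRR : RootRat q H) (u t v : GG K) (hu : u ∈ U1 K q)
    (ht : t ∈ T1 K q) (hv : v ∈ V1 K q) (h : u * t * v ∈ H) : u ∈ M ∧ t ∈ M ∧ v ∈ M := by
  obtain ⟨m1, m2, m3, m4, m5, m6⟩ := temd3_mem_lemA
  obtain ⟨s0, s71, s11, s60, s27, s44⟩ := temd3_sig_data
  obtain ⟨b4, hb4, b3, hb3, b2, hb2, b1, hb1, rfl⟩ := dec_U C.hF u hu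
  obtain ⟨c4, hc4, c3, hc3, c2, hc2, c1, hc1, rfl⟩ := dec_V C.hF v hv
  -- level 1, `U`-step
  have hP1 : ∀ c : K, Commute (b4 * b3 * b2) (X 0 c) := fun c =>
    ((temd3_comm Psi4 0 (temd3_cp _ _ rfl) b4 hb4 c).mul_left
      (temd3_comm Psi3 0 (temd3_cp _ _ rfl) b3 hb3 c)).mul_left
      (temd3_comm Psi2 0 (temd3_cp _ _ rfl) b2 hb2 c)
  have hv1 : ∀ c : K, Commute (c4 * c3 * c2 * c1) (X 0 c) := fun c =>
    (((temd3_comm (ng Psi4) 0 (temd3_cp _ _ rfl) c4 hc4 c).mul_left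
      (temd3_comm (ng Psi3) 0 (temd3_cp _ _ rfl) c3 hc3 c)).mul_left
      (temd3_comm (ng Psi2) 0 (temd3_cp _ _ rfl) c2 hc2 c)).mul_left
      (temd3_comm (ng Psi1) 0 (temd3_cp _ _ rfl) c1 hc1 c)
  have hb1' : (b4 * b3 * b2) * b1 * (b4 * b3 * b2)⁻¹ ∈ UPsi K Psi1 ⊓ twistedE6 K q := by
    have e : (b4 * b3 * b2) * b1 * (b4 * b3 * b2)⁻¹ =
        b4 * (b3 * (b2 * b1 * b2⁻¹) * b3⁻¹) * b4⁻¹ := by group
    rw [e]
    exact temd3_norm Psi4 Psi1 (temd3_np _ _ rfl) b4 hb4 _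
      (temd3_norm Psi3 Psi1 (temd3_np _ _ rfl) b3 hb3 _
        (temd3_norm Psi2 Psi1 (temd3_np _ _ rfl) b2 hb2 _ hb1))
  have h0 : (b4 * b3 * b2) * b1 * t * (c4 * c3 * c2 * c1) ∈ H := by
    have e : (b4 * b3 * b2) * b1 * t * (c4 * c3 * c2 * c1) =
        b4 * b3 * b2 * b1 * t * (c4 * c3 * c2 * c1) := by group
    rw [e]
    exact h
  obtain ⟨hM1, h1⟩ := temd3_step_U C hRR Psi1 0 m1 (by norm_num) s0 (b4 * b3 * b2) b1 t
    (c4 * c3 * c2 * c1) ht hb1' hP1 hv1 h0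
  -- level 1, `V`-step
  have hP1' : ∀ c : K, Commute (b4 * b3 * b2) (X 71 c) := fun c =>
    ((temd3_comm Psi4 71 (temd3_cp _ _ rfl) b4 hb4 c).mul_left
      (temd3_comm Psi3 71 (temd3_cp _ _ rfl) b3 hb3 c)).mul_left
      (temd3_comm Psi2 71 (temd3_cp _ _ rfl) b2 hb2 c)
  have hR1 : ∀ c : K, Commute (c4 * c3 * c2) (X 71 c) := fun c =>
    ((temd3_comm (ng Psi4) 71 (temd3_cp _ _ rfl) c4 hc4 c).mul_left
      (temd3_comm (ng Psi3) 71 (temd3_cp _ _ rfl) c3 hc3 c)).mul_left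
      (temd3_comm (ng Psi2) 71 (temd3_cp _ _ rfl) c2 hc2 c)
  have h1' : (b4 * b3 * b2) * t * ((c4 * c3 * c2) * c1) ∈ H := h1
  obtain ⟨hN1, h2⟩ := temd3_step_V C hRR (ng Psi1) 71 m4 (by norm_num) s71 (b4 * b3 * b2) t
    (c4 * c3 * c2) c1 ht hc1 hP1' hR1 h1'
  -- level 2, `U`-step
  have hP2 : ∀ c : K, Commute (b4 * b3) (X 11 c) := fun c =>
    (temd3_comm Psi4 11 (temd3_cp _ _ rfl) b4 hb4 c).mul_left
      (temd3_comm Psi3 11 (temd3_cp _ _ rfl) b3 hb3 c)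
  have hv2 : ∀ c : K, Commute (c4 * c3 * c2) (X 11 c) := fun c =>
    ((temd3_comm (ng Psi4) 11 (temd3_cp _ _ rfl) c4 hc4 c).mul_left
      (temd3_comm (ng Psi3) 11 (temd3_cp _ _ rfl) c3 hc3 c)).mul_left
      (temd3_comm (ng Psi2) 11 (temd3_cp _ _ rfl) c2 hc2 c)
  have hb2' : (b4 * b3) * b2 * (b4 * b3)⁻¹ ∈ UPsi K Psi2 ⊓ twistedE6 K q := by
    have e : (b4 * b3) * b2 * (b4 * b3)⁻¹ = b4 * (b3 * b2 * b3⁻¹) * b4⁻¹ := by group
    rw [e]
    exact temd3_norm Psi4 Psi2 (temd3_np _ _ rfl) b4 hb4 _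
      (temd3_norm Psi3 Psi2 (temd3_np _ _ rfl) b3 hb3 _ hb2)
  have h2' : (b4 * b3) * b2 * t * (c4 * c3 * c2) ∈ H := h2
  obtain ⟨hM2, h3⟩ := temd3_step_U C hRR Psi2 11 m2 (by norm_num) s11 (b4 * b3) b2 t
    (c4 * c3 * c2) ht hb2' hP2 hv2 h2'
  -- level 2, `V`-step
  have hP2' : ∀ c : K, Commute (b4 * b3) (X 60 c) := fun c =>
    (temd3_comm Psi4 60 (temd3_cp _ _ rfl) b4 hb4 c).mul_left
      (temd3_comm Psi3 60 (temd3_cp _ _ rfl) b3 hb3 c)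
  have hR2 : ∀ c : K, Commute (c4 * c3) (X 60 c) := fun c =>
    (temd3_comm (ng Psi4) 60 (temd3_cp _ _ rfl) c4 hc4 c).mul_left
      (temd3_comm (ng Psi3) 60 (temd3_cp _ _ rfl) c3 hc3 c)
  have h3' : (b4 * b3) * t * ((c4 * c3) * c2) ∈ H := h3
  obtain ⟨hN2, h4⟩ := temd3_step_V C hRR (ng Psi2) 60 m5 (by norm_num) s60 (b4 * b3) t
    (c4 * c3) c2 ht hc2 hP2' hR2 h3'
  -- level 3, `U`-step
  have hP3 : ∀ c : K, Commute b4 (X 27 c) := fun c =>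
    temd3_comm Psi4 27 (temd3_cp _ _ rfl) b4 hb4 c
  have hv3 : ∀ c : K, Commute (c4 * c3) (X 27 c) := fun c =>
    (temd3_comm (ng Psi4) 27 (temd3_cp _ _ rfl) c4 hc4 c).mul_left
      (temd3_comm (ng Psi3) 27 (temd3_cp _ _ rfl) c3 hc3 c)
  have hb3' : b4 * b3 * b4⁻¹ ∈ UPsi K Psi3 ⊓ twistedE6 K q :=
    temd3_norm Psi4 Psi3 (temd3_np _ _ rfl) b4 hb4 _ hb3
  obtain ⟨hM3, h5⟩ := temd3_step_U C hRR Psi3 27 m3 (by norm_num) s27 b4 b3 t
    (c4 * c3) ht hb3' hP3 hv3 h4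
  -- level 3, `V`-step
  have hP3' : ∀ c : K, Commute b4 (X 44 c) := fun c =>
    temd3_comm Psi4 44 (temd3_cp _ _ rfl) b4 hb4 c
  have hR3 : ∀ c : K, Commute c4 (X 44 c) := fun c =>
    temd3_comm (ng Psi4) 44 (temd3_cp _ _ rfl) c4 hc4 c
  obtain ⟨hN3, h6⟩ := temd3_step_V C hRR (ng Psi3) 44 m6 (by norm_num) s44 b4 t
    c4 c3 ht hc3 hP3' hR3 h5
  -- level 4
  have hM4 : b4 ∈ M := (C.hM _).mpr ⟨hb4.2, one_rat C.hF 39 (by simp) b4 hb4⟩
  have hN4 : c4 ∈ M := (C.hM _).mpr ⟨hc4.2, one_rat C.hF 32 (by simp) c4 hc4⟩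
  have htH : t ∈ H := by
    have e : t = b4⁻¹ * (b4 * t * c4) * c4⁻¹ := by group
    rw [e]
    exact H.mul_mem (H.mul_mem (H.inv_mem (C.hMH hM4)) h6) (H.inv_mem (C.hMH hN4))
  have htM : t ∈ M := (C.hM _).mpr ⟨ht.2, tor_rat C hRR t ht htH⟩
  refine ⟨?_, htM, ?_⟩
  · have e : b4 * b3 * b2 * b1 = ((b4 * b3 * b2) * b1 * (b4 * b3 * b2)⁻¹) *
        ((b4 * b3) * b2 * (b4 * b3)⁻¹) * (b4 * b3 * b4⁻¹) * b4 := by group
    rw [e]
    exact M.mul_mem (M.mul_mem (M.mul_mem hM1 hM2) hM3) hM4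
  · exact M.mul_mem (M.mul_mem (M.mul_mem hN4 hN3) hN2) hN1

theorem core_utv (C : Ctx q f M H) (hRR : RootRat q H) (u t v : GG K) (hu : u ∈ U1 K q)
    (ht : t ∈ T1 K q) (hv : v ∈ V1 K q) (h : u * t * v ∈ H) : u * t * v ∈ M := by
  obtain ⟨h1, h2, h3⟩ := temd3_core C hRR u t v hu ht hv h
  exact M.mul_mem (M.mul_mem h1 h2) h3

theorem core (C : Ctx q f M H) (hRR : RootRat q H) : H ≤ M := by
  intro g hg
  obtain ⟨u, hu, t, ht, v, hv, n, hn, hnr, rfl⟩ := nf C.hF g (C.hHG hg)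
  have hnM : n ∈ M := (C.hM _).mpr ⟨hn, hnr⟩
  have h1 : u * t * v ∈ H := by
    have e : u * t * v = (u * t * v * n) * n⁻¹ := by group
    rw [e]
    exact H.mul_mem hg (H.inv_mem (C.hMH hnM))
  exact M.mul_mem (core_utv C hRR u t v hu ht hv h1) hnM

theorem fld_main (C : Ctx q f M H) : H = twistedE6 K q ∨ RootRat q H := by
  by_cases hRR : RootRat q H
  · exact Or.inr hRR
  · left
    unfold RootRat at hRR
    push Not at hRR
    obtain ⟨r, hr, hσ, t0, h0, ht0⟩ := hRR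
    have h1 := XS_full C r hr hσ t0 h0 ht0
    have h2 := short_all C r hr hσ h1
    apply le_antisymm C.hHG
    apply gen_le C
    intro r' hr' t
    simp only [List.mem_cons, List.not_mem_nil, or_false] at hr'
    rcases hr' with rfl | rfl | rfl | rfl
    · exact h2 56 (by norm_num) (by decide +kernel) t
    · exact h2 15 (by norm_num) (by decide +kernel) t
    · exact h2 42 (by norm_num) (by decide +kernel) t
    · exact h2 29 (by norm_num) (by decide +kernel) t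

/-- the maximality theorem in the language of the project -/
theorem tem_main [Fintype K] (hq : IsPrimePow q) (hK : Fintype.card K = q ^ 2)
    (M : Subgroup (GG K)) (hM : IsM q M) :
    M ≠ twistedE6 K q ∧ ∀ H : Subgroup (GG K), M ≤ H → H ≤ twistedE6 K q →
      H = M ∨ H = twistedE6 K q := by
  obtain ⟨f, hF⟩ := frob_exists hq hK
  constructor
  · intro hMG
    obtain ⟨θ, hθ⟩ := exists_not_fix (K := K) hq hK
    have h1 : XS q 56 θ ∈ twistedE6 K q := XS_mem_G1 hF 56 (by norm_num) (by decide +kernel) θ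
    rw [← hMG] at h1
    exact XS_not_rat hF θ hθ ((hM _).mp h1).2
  · intro H hMH hHG
    have C : Ctx q f M H := ⟨hF, hM, hMH, hHG⟩
    rcases fld_main C with h | hRR
    · exact Or.inr h
    · exact Or.inl (le_antisymm (core C hRR) hMH)

end Cfsg.Agent.Lib.Helper10.TEM
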